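import Mathlib.AlgebraicGeometry.Scheme
import Mathlib.AlgebraicGeometry.Properties
import Mathlib.AlgebraicGeometry.Stalk
import Mathlib.AlgebraicGeometry.AffineScheme

set_option linter.unusedSectionVars false
set_option linter.unusedVariables false
set_option linter.unusedSimpArgs false
set_option autoImplicit false
set_option linter.style.haveILetI false
set_option maxHeartbeats 400000

namespace Groth.Agent.Helper6.NormCompLib

open AlgebraicGeometry CategoryTheory TopologicalSpace

universe u

variable (X : Scheme.{u})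

/-- If the stalk at `x` is a domain, all generizations of `x` have a common generization. -/
lemma exists_common_generization (x : X) [IsDomain (X.presheaf.stalk x)] :
    ∃ ζ : X, ∀ η : X, η ⤳ x → ζ ⤳ η := by
  let b : ↥(Spec (X.presheaf.stalk x)) := (⊥ : PrimeSpectrum (X.presheaf.stalk x))
  refine ⟨X.fromSpecStalk x b, ?_⟩
  intro η hη
  have hmem : η ∈ Set.range (X.fromSpecStalk x) := by
    rw [Scheme.range_fromSpecStalk]; exact hη
  obtain ⟨p, rfl⟩ := hmem
  apply Specializes.map _ (X.fromSpecStalk x).continuous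
  have : (⊥ : PrimeSpectrum (X.presheaf.stalk x)) ≤ (p : PrimeSpectrum (X.presheaf.stalk x)) :=
    bot_le
  exact (PrimeSpectrum.le_iff_specializes _ _).mp this

/-- Part A: two irreducible components through a point with a domain stalk coincide. -/
lemma eq_of_mem_of_mem (x : X) [IsDomain (X.presheaf.stalk x)]
    (Z Z' : Set X) (hZ : Z ∈ irreducibleComponents X) (hZ' : Z' ∈ irreducibleComponents X)
    (hx : x ∈ Z) (hx' : x ∈ Z') : Z = Z' := by
  obtain ⟨ζ, hζ⟩ := exists_common_generization X x
  have key : ∀ W : Set X, W ∈ irreducibleComponents X → x ∈ W → W = closure {ζ} := by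
    intro W hW hxW
    have hWc : IsClosed W := isClosed_of_mem_irreducibleComponents W hW
    obtain ⟨η, hη⟩ := QuasiSober.sober hW.1 hWc
    have hηx : η ⤳ x := by
      rw [specializes_iff_mem_closure, hη.def]; exact hxW
    have h1 : ζ ⤳ η := hζ η hηx
    have hsub : W ⊆ closure {ζ} := by
      rw [← hη.def]
      exact closure_minimal (Set.singleton_subset_iff.mpr (specializes_iff_mem_closure.mp h1))
        isClosed_closure
    exact Set.Subset.antisymm hsub (hW.2 isIrreducible_singleton.closure hsub)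
  rw [key Z hZ hx, key Z' hZ' hx']

theorem components_open_disjoint
    (hfin : ∀ U : X.Opens, IsCompact (U : Set X) → (irreducibleComponents ↥U).Finite)
    (hN : ∀ x : X, IsDomain (X.presheaf.stalk x)) :
    (∀ Z ∈ irreducibleComponents X, IsOpen Z) ∧
      ∀ Z ∈ irreducibleComponents X, ∀ Z' ∈ irreducibleComponents X, Z ≠ Z' → Disjoint Z Z' := by
  have hdisj : ∀ Z ∈ irreducibleComponents X, ∀ Z' ∈ irreducibleComponents X, Z ≠ Z' →
      Disjoint Z Z' := by
    intro Z hZ Z' hZ' hne
    rw [Set.disjoint_left]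
    intro x hx hx'
    haveI := hN x
    exact hne (eq_of_mem_of_mem X x Z Z' hZ hZ' hx hx')
  refine ⟨?_, hdisj⟩
  intro Z hZ
  rw [isOpen_iff_forall_mem_open]
  intro x hxZ
  obtain ⟨_, ⟨U, hU, rfl⟩, hxU, -⟩ :=
    X.isBasis_affineOpens.exists_subset_of_mem_open (Set.mem_univ x) isOpen_univ
  have hF : (irreducibleComponents ↥U).Finite := hfin U hU.isCompact
  -- for each component of `U`, a component of `X` containing it
  have hex : ∀ C : Set ↥U, ∃ W : Set X, W ∈ irreducibleComponents X ∧
      (C ∈ irreducibleComponents ↥U → Subtype.val '' C ⊆ W) := by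
    intro C
    by_cases hC : C ∈ irreducibleComponents ↥U
    · have hirr : IsIrreducible (Subtype.val '' C : Set X) :=
        hC.1.image _ continuous_subtype_val.continuousOn
      obtain ⟨W, hW, hsub⟩ := exists_mem_irreducibleComponents_subset_of_isIrreducible _ hirr
      exact ⟨W, hW, fun _ => hsub⟩
    · exact ⟨Z, hZ, fun h => absurd h hC⟩
  choose W hW hWsub using hex
  let T : Set X := ⋃ C ∈ {C ∈ irreducibleComponents ↥U | W C ≠ Z}, W C
  have hTclosed : IsClosed T := by
    apply Set.Finite.isClosed_biUnion (hF.subset (fun C hC => hC.1))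
    intro C _
    exact isClosed_of_mem_irreducibleComponents _ (hW C)
  refine ⟨(U : Set X) ∩ Tᶜ, ?_, U.isOpen.inter hTclosed.isOpen_compl, ⟨hxU, ?_⟩⟩
  · rintro y ⟨hyU, hyT⟩
    have hy : (⟨y, hyU⟩ : ↥U) ∈ ⋃₀ irreducibleComponents ↥U := by
      rw [sUnion_irreducibleComponents]; trivial
    obtain ⟨C, hC, hyC⟩ := hy
    have hyW : y ∈ W C := hWsub C hC ⟨⟨y, hyU⟩, hyC, rfl⟩
    by_contra hyZ
    apply hyT
    have hne : W C ≠ Z := by
      intro h; rw [h] at hyW; exact hyZ hyW
    exact Set.mem_biUnion (⟨hC, hne⟩ : C ∈ {C ∈ irreducibleComponents ↥U | W C ≠ Z}) hyW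
  · intro hxT
    simp only [T, Set.mem_iUnion] at hxT
    obtain ⟨C, ⟨hC, hne⟩, hxW⟩ := hxT
    exact (Set.disjoint_left.mp (hdisj (W C) (hW C) Z hZ hne)) hxW hxZ

end Groth.Agent.Helper6.NormCompLib
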